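import Mathlib
import Cfsg.Agent.Lib.SFourFree.Rigid
import Cfsg.Agent.Lib.PGroup.Thompson
import Cfsg.Agent.Lib.PGroup.SylowNormal
import Cfsg.Agent.S0604
import Cfsg.Agent.S0606

/-!
# Factorisation for soluble groups of characteristic 2 without a section `S₄`

For a rigid normal elementary abelian subgroup `V` of a Sylow 2-subgroup `S` one has
`G = C(V) N(J(S))`.
-/

set_option autoImplicit false
set_option linter.unusedSectionVars false

namespace Cfsg.Agent.Lib.SFourFree

open Subgroup
open scoped commutatorElement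

universe u

variable {G : Type u} [Group G] [Finite G]

theorem Rigid.subgroupOf {S V L : Subgroup G} (h : Rigid S V) (hS : S ≤ L) (hV : V ≤ L) :
    Rigid (S.subgroupOf L) (V.subgroupOf L) := by
  intro R hR h1 h2
  rw [centralizer_subgroupOf hV] at h1 h2
  rw [Nat.card_congr (subgroupOfEquivOfLe hV).toEquiv, card_inf_subgroupOf_centralizer hV,
    card_inf_centralizer_map_subtype hV, ← card_map_of_injective (K := R) L.subtype_injective]
  refine h _ ((map_mono hR).trans (map_subgroupOf_eq_of_le hS).le) ?_ ?_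
  · rw [← map_commutator, map_le_iff_le_comap]; exact h1
  · rintro _ ⟨r, hr, rfl⟩
    exact h2 r hr

/-- Two rigid subgroups of `O` commute. -/
theorem rigid_commute {O V1 V2 : Subgroup G} (h1 : IsElementaryAbelian 2 V1)
    (h2 : IsElementaryAbelian 2 V2) (hO1 : V1 ≤ O) (hO2 : V2 ≤ O) (r1 : Rigid O V1)
    (r2 : Rigid O V2) : V1 ≤ centralizer (V2 : Set G) := by
  have a1 := r1 V2 hO2 (by rw [commutator_self_eq_bot_iff.2 h2.1]; exact bot_le)
    fun r hr => by rw [h2.2 r hr]; exact one_mem _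
  have a2 := r2 V1 hO1 (by rw [commutator_self_eq_bot_iff.2 h1.1]; exact bot_le)
    fun r hr => by rw [h1.2 r hr]; exact one_mem _
  set X := Nat.card ↥(V1 ⊓ centralizer (V2 : Set G)) with hX
  set X' := Nat.card ↥(V2 ⊓ centralizer (V1 : Set G)) with hX'
  have hXV : X ≤ Nat.card V1 := card_le_of_le inf_le_left
  have hXV' : X' ≤ Nat.card V2 := card_le_of_le inf_le_left
  have hmul : Nat.card V1 * Nat.card V2 ≤ X * X' := by
    refine Nat.le_of_mul_le_mul_right (c := Nat.card V1 * Nat.card V2 * X * X') ?_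
      (Nat.mul_pos (Nat.mul_pos (Nat.mul_pos Nat.card_pos Nat.card_pos) Nat.card_pos) Nat.card_pos)
    calc Nat.card V1 * Nat.card V2 * (Nat.card V1 * Nat.card V2 * X * X')
        = (Nat.card V2 ^ 2 * X) * (Nat.card V1 ^ 2 * X') := by ring
      _ ≤ (Nat.card V1 * X' ^ 2) * (Nat.card V2 * X ^ 2) := Nat.mul_le_mul a1 a2
      _ = _ := by ring
  have hge : Nat.card V1 ≤ X := Nat.le_of_mul_le_mul_right
    (hmul.trans (Nat.mul_le_mul_left X hXV')) Nat.card_pos
  exact (eq_of_le_of_card_ge inf_le_left hge).ge.trans inf_le_right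

theorem map_conj_mul (V : Subgroup G) (x y : G) :
    (V.map (MulAut.conj y).toMonoidHom).map (MulAut.conj x).toMonoidHom =
      V.map (MulAut.conj (x * y)).toMonoidHom := by
  rw [Subgroup.map_map]
  congr 1
  ext v
  simp [mul_assoc]

/-- The conjugates of a rigid subgroup generate an elementary abelian subgroup of `O₂`, and the
subgroups of `O₂(G/C(W))` satisfy the squared bound on it. -/
theorem thompson_le_centralizer [Group.IsSolvable G]
    (hfree : ¬ Cfsg.Involves (Equiv.Perm (Fin 4)) G)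
    (hc : centralizer (pCore 2 G : Set G) ≤ pCore 2 G) (S : Sylow 2 G) {V : Subgroup G}
    (hV : IsElementaryAbelian 2 V) (hSV : (S : Subgroup G) ≤ normalizer (V : Set G))
    (hr : Rigid (S : Subgroup G) V) :
    ∃ (W : Subgroup G) (_ : W.Normal), V ≤ W ∧ thompsonSubgroup 2 G ≤ centralizer (W : Set G) := by
  have : Fact (Nat.Prime 2) := ⟨Nat.prime_two⟩
  set O := pCore 2 G with hO
  have hOS : O ≤ (S : Subgroup G) := PSolvable.pCore_le_sylow S
  have hOmap : ∀ x : G, O.map (MulAut.conj x).toMonoidHom = O := fun x => by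
    refine eq_of_le_of_card_ge ?_ (card_map_of_injective (MulAut.conj x).injective).ge
    rintro _ ⟨o, ho, rfl⟩
    exact (inferInstance : O.Normal).conj_mem o ho x
  have hVO : V ≤ O := le_pCore_of_rigid hfree hc hV (hOS.trans hSV) (hr.mono hOS)
  set Vx : G → Subgroup G := fun x => V.map (MulAut.conj x).toMonoidHom with hVx
  have hxO : ∀ x, Vx x ≤ O := fun x => (map_mono hVO).trans (hOmap x).le
  have hxel : ∀ x, IsElementaryAbelian 2 (Vx x) := fun x => ElemAbelian.map hV _
  have hxr : ∀ x, Rigid O (Vx x) := fun x => by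
    have h := (hr.mono hOS).map (MulAut.conj x)
    rwa [hOmap x] at h
  set W := ⨆ x, Vx x with hW
  have hWel : IsElementaryAbelian 2 W := ElemAbelian.iSup hxel fun x y a ha b hb =>
    (mem_centralizer_iff.1 (rigid_commute (hxel x) (hxel y) (hxO x) (hxO y) (hxr x) (hxr y) ha) b hb).symm
  have hWn : W.Normal := by
    refine ⟨fun w hw g => ?_⟩
    have key : W.map (MulAut.conj g).toMonoidHom ≤ W := by
      rw [hW, Subgroup.map_iSup]
      refine iSup_le fun x => ?_
      rw [hVx, map_conj_mul]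
      exact le_iSup Vx (g * x)
    exact key (mem_map_of_mem (MulAut.conj g).toMonoidHom hw)
  have hVW : V ≤ W := le_trans (fun v hv => mem_map.2 ⟨v, hv, by simp⟩) (le_iSup Vx 1)
  refine ⟨W, hWn, hVW, ?_⟩
  set C := centralizer (W : Set G) with hC
  have hCx : ∀ x, C ≤ centralizer (Vx x : Set G) := fun x =>
    centralizer_le (SetLike.coe_subset_coe.2 (le_iSup Vx x))
  have hPn := twoKer_normal (V := W)
  have hP2 : ∀ R ≤ twoKer W, ⁅R, R⁆ ≤ C → (∀ r ∈ R, r ^ 2 ∈ C) →
      Nat.card R ^ 2 * Nat.card ↥(W ⊓ centralizer (R : Set G)) ≤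
        Nat.card W * Nat.card ↥(R ⊓ C) ^ 2 := by
    intro R
    induction hn : Nat.card R using Nat.strong_induction_on generalizing R with
    | _ n ih =>
    subst hn
    intro hRP hR1 hR2
    by_cases hRC : R ≤ C
    · rw [inf_eq_left.2 hRC, Nat.mul_comm]
      exact Nat.mul_le_mul_right _ (card_le_of_le inf_le_left)
    obtain ⟨x, hx⟩ : ∃ x, ¬ R ≤ centralizer (Vx x : Set G) := by
      by_contra h
      push Not at h
      exact hRC (le_centralizer_iff.1 (iSup_le fun x => le_centralizer_iff.1 (h x)))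
    set V' := Vx x with hV'
    set C' := centralizer (V' : Set G) with hC'
    set T : Sylow 2 G := x • S with hT
    have hTS : (T : Subgroup G) = (S : Subgroup G).map (MulAut.conj x).toMonoidHom := by
      rw [hT, Sylow.coe_subgroup_smul, Subgroup.pointwise_smul_def]; rfl
    have hr' : Rigid (T : Subgroup G) V' := hTS ▸ hr.map (MulAut.conj x)
    set Rg := (R ⊔ C) ⊓ (T : Subgroup G) with hRg
    set K := R ⊓ C' with hK
    have hmapRC : ∀ t ∈ R ⊔ C, ∃ r ∈ R, r⁻¹ * t ∈ C := by
      intro t ht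
      obtain ⟨r, hr, c, hc, rfl⟩ := mem_sup_of_normal_right.1 ht
      exact ⟨r, hr, by rwa [inv_mul_cancel_left]⟩
    have hlift : ∀ r ∈ R, ∃ t ∈ Rg, t⁻¹ * r ∈ C := by
      intro r hr
      obtain ⟨t, ht, htr⟩ := PSolvable.pCore_le_sylow
        (T.mapSurjective (QuotientGroup.mk'_surjective C)) (hRP hr)
      have htc : t⁻¹ * r ∈ C := (QuotientGroup.eq).1 htr
      refine ⟨t, ⟨?_, ht⟩, htc⟩
      have h := mul_mem (mem_sup_left hr : r ∈ R ⊔ C) (inv_mem (mem_sup_right htc : t⁻¹ * r ∈ R ⊔ C))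
      simpa using h
    have hν : ∀ a b : G, a⁻¹ * b ∈ C → Offenders.Model.nu W a = Offenders.Model.nu W b := by
      intro a b h
      rw [← inv_mul_eq_one, ← map_inv, ← map_mul]
      exact Offenders.Model.nu_eq_one_iff.2 h
    have hmap : Rg.map (Offenders.Model.nu W) = R.map (Offenders.Model.nu W) := by
      refine le_antisymm ?_ ?_
      · rintro _ ⟨t, ht, rfl⟩
        obtain ⟨r, hr, hrt⟩ := hmapRC t (mem_inf.1 ht).1
        exact ⟨r, hr, hν r t hrt⟩
      · rintro _ ⟨r, hr, rfl⟩
        obtain ⟨t, ht, htr⟩ := hlift r hr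
        exact ⟨t, ht, hν t r htr⟩
    have hmapK : (Rg ⊓ C').map (Offenders.Model.nu W) ≤ K.map (Offenders.Model.nu W) := by
      rintro _ ⟨t, ⟨ht, htC⟩, rfl⟩
      obtain ⟨r, hr, hrt⟩ := hmapRC t (mem_inf.1 ht).1
      refine ⟨r, ⟨hr, ?_⟩, hν r t hrt⟩
      have h := C'.mul_mem htC (C'.inv_mem (hCx x hrt))
      simpa using h
    have hrig := hr' Rg inf_le_right (by
      refine le_trans ?_ (hCx x)
      rw [commutator_le]
      intro a ha b hb
      obtain ⟨ra, hra, hrat⟩ := hmapRC a (mem_inf.1 ha).1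
      obtain ⟨rb, hrb, hrbt⟩ := hmapRC b (mem_inf.1 hb).1
      rw [hC, ← Offenders.Model.nu_eq_one_iff, map_commutatorElement, ← hν ra a hrat,
        ← hν rb b hrbt, ← map_commutatorElement, Offenders.Model.nu_eq_one_iff]
      exact hR1 (commutator_mem_commutator hra hrb)) (by
      intro a ha
      obtain ⟨ra, hra, hrat⟩ := hmapRC a (mem_inf.1 ha).1
      refine hCx x ?_
      rw [hC, ← Offenders.Model.nu_eq_one_iff, map_pow, ← hν ra a hrat, ← map_pow,
        Offenders.Model.nu_eq_one_iff]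
      exact hR2 ra hra)
    have hXle : V' ⊓ centralizer (R : Set G) ≤ V' ⊓ centralizer (Rg : Set G) := by
      refine le_inf inf_le_left (le_centralizer_iff.1 ?_)
      exact (inf_le_left : Rg ≤ R ⊔ C).trans (sup_le (le_centralizer_iff.1 inf_le_right)
        ((hCx x).trans (centralizer_le (SetLike.coe_subset_coe.2 inf_le_left))))
    have hkR : Nat.card R ^ 2 * Nat.card ↥(V' ⊓ centralizer (R : Set G)) ≤
        Nat.card V' * Nat.card K ^ 2 := by
      have c1 := Offenders.Model.card_map_nu (V := W) R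
      have c2 := Offenders.Model.card_map_nu (V := W) Rg
      have c3 := Offenders.Model.card_map_nu (V := W) K
      have c4 := Offenders.Model.card_map_nu (V := W) (Rg ⊓ C')
      rw [hmap] at c2
      rw [hK, inf_assoc, inf_eq_right.2 (hCx x)] at c3
      rw [show Rg ⊓ C' ⊓ centralizer (W : Set G) = Rg ⊓ C from by
        rw [inf_assoc, inf_eq_right.2 (hCx x)]] at c4
      set Rb := Nat.card (R.map (Offenders.Model.nu W)) with hRb
      set cg := Nat.card ↥(Rg ⊓ C) with hcg
      have h' : Rb ^ 2 * Nat.card ↥(V' ⊓ centralizer (R : Set G)) ≤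
          Nat.card V' * Nat.card (K.map (Offenders.Model.nu W)) ^ 2 := by
        refine Nat.le_of_mul_le_mul_right (c := cg ^ 2) ?_ (pow_pos Nat.card_pos 2)
        calc Rb ^ 2 * Nat.card ↥(V' ⊓ centralizer (R : Set G)) * cg ^ 2
            = Nat.card Rg ^ 2 * Nat.card ↥(V' ⊓ centralizer (R : Set G)) := by rw [← c2]; ring
          _ ≤ Nat.card Rg ^ 2 * Nat.card ↥(V' ⊓ centralizer (Rg : Set G)) :=
              Nat.mul_le_mul_left _ (card_le_of_le hXle)
          _ ≤ Nat.card V' * Nat.card ↥(Rg ⊓ C') ^ 2 := hrig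
          _ = Nat.card V' * Nat.card ((Rg ⊓ C').map (Offenders.Model.nu W)) ^ 2 * cg ^ 2 := by
              rw [← c4]; ring
          _ ≤ _ := Nat.mul_le_mul_right _ (Nat.mul_le_mul_left _
              (Nat.pow_le_pow_left (card_le_of_le hmapK) 2))
      calc Nat.card R ^ 2 * Nat.card ↥(V' ⊓ centralizer (R : Set G))
          = (Rb ^ 2 * Nat.card ↥(V' ⊓ centralizer (R : Set G))) * Nat.card ↥(R ⊓ C) ^ 2 := by
            rw [← c1]; ring
        _ ≤ (Nat.card V' * Nat.card (K.map (Offenders.Model.nu W)) ^ 2) *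
              Nat.card ↥(R ⊓ C) ^ 2 := Nat.mul_le_mul_right _ h'
        _ = _ := by rw [← c3]; ring
    have hKlt : Nat.card K < Nat.card R := lt_of_le_of_ne (card_le_of_le inf_le_left) fun h =>
      hx ((eq_of_le_of_card_ge inf_le_left h.ge).ge.trans inf_le_right)
    have hIH := ih _ hKlt K rfl (inf_le_left.trans hRP) ((commutator_mono inf_le_left inf_le_left).trans hR1)
      (fun r hr => hR2 r (mem_inf.1 hr).1)
    rw [hK, inf_assoc, inf_eq_right.2 (hCx x), ← hK] at hIH
    refine Nat.le_of_mul_le_mul_right ?_ (Nat.card_pos (α := V'))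
    calc Nat.card R ^ 2 * Nat.card ↥(W ⊓ centralizer (R : Set G)) * Nat.card V'
        ≤ Nat.card R ^ 2 * (Nat.card ↥(W ⊓ centralizer (K : Set G)) *
            Nat.card ↥(V' ⊓ centralizer (R : Set G))) := by
          rw [Nat.mul_assoc]
          refine Nat.mul_le_mul_left _ ((Quadratic.card_mul_card_le _ V').trans (Nat.mul_le_mul ?_ ?_))
          · refine card_le_of_le (sup_le (inf_le_inf_left _
              (centralizer_le (SetLike.coe_subset_coe.2 inf_le_left))) (le_inf (le_iSup Vx x) ?_))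
            exact le_centralizer_iff.1 (inf_le_right : K ≤ C')
          · exact card_le_of_le (le_inf inf_le_right (inf_le_left.trans inf_le_right))
      _ = (Nat.card R ^ 2 * Nat.card ↥(V' ⊓ centralizer (R : Set G))) *
            Nat.card ↥(W ⊓ centralizer (K : Set G)) := by ring
      _ ≤ (Nat.card V' * Nat.card K ^ 2) * Nat.card ↥(W ⊓ centralizer (K : Set G)) :=
          Nat.mul_le_mul_right _ hkR
      _ = Nat.card V' * (Nat.card K ^ 2 * Nat.card ↥(W ⊓ centralizer (K : Set G))) := by ring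
      _ ≤ Nat.card V' * (Nat.card W * Nat.card ↥(R ⊓ C) ^ 2) := Nat.mul_le_mul_left _ hIH
      _ = _ := by ring
  rw [thompsonSubgroup]
  refine sSup_le fun A hA => ?_
  refine le_centralizer_of_offender hfree W hWel A hA.1 ?_ hP2
  have h := (Agent.S0606.result W hWel A hA).1 (A ⊓ C) inf_le_left
  rwa [show W ⊓ centralizer ((A ⊓ C : Subgroup G) : Set G) = W from
    inf_eq_left.2 (le_centralizer_iff.1 inf_le_right), Nat.mul_comm] at h

/-- **Factorisation.** -/
theorem factorization [Group.IsSolvable G] (hfree : ¬ Cfsg.Involves (Equiv.Perm (Fin 4)) G)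
    (hc : centralizer (pCore 2 G : Set G) ≤ pCore 2 G) (S : Sylow 2 G) {V : Subgroup G}
    (hV : IsElementaryAbelian 2 V) (hSV : (S : Subgroup G) ≤ normalizer (V : Set G))
    (hr : Rigid (S : Subgroup G) V) :
    centralizer (V : Set G) ⊔ normalizer (thompsonSubgroupOf 2 (S : Subgroup G) : Set G) = ⊤ := by
  have : Fact (Nat.Prime 2) := ⟨Nat.prime_two⟩
  obtain ⟨W, hWn, hVW, hJ⟩ := thompson_le_centralizer hfree hc S hV hSV hr
  set C := centralizer (W : Set G) with hC
  set R := (S : Subgroup G) ⊓ C with hR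
  have hJS : thompsonSubgroupOf 2 (S : Subgroup G) ≤ R :=
    le_inf (Thompson.thompsonSubgroupOf_le _ _)
      (le_trans ((Agent.S0604.result (G := G) (p := 2)).ge.trans' (le_iSup_of_le S le_rfl)) hJ)
  have hfr : normalizer (R : Set G) ⊔ C = ⊤ := SylowNormal.normalizer_inf_sup S C
  rw [eq_top_iff, ← hfr]
  refine sup_le ?_ ((centralizer_le (SetLike.coe_subset_coe.2 hVW)).trans le_sup_left)
  refine le_trans ?_ le_sup_right
  rw [← Thompson.thompsonSubgroupOf_eq_of_le hJS inf_le_left]
  exact Thompson.normalizer_le 2 R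

end Cfsg.Agent.Lib.SFourFree
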